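import Groth.Agent.Lib.WDivAff85.Ring
import Mathlib.AlgebraicGeometry.PullbackCarrier
import Mathlib.RingTheory.KrullDimension.Field

/-!
# Weil divisors on `𝔸(σ; X)`
-/

set_option autoImplicit false
set_option linter.style.haveILetI false
universe u
open CategoryTheory CategoryTheory.Limits AlgebraicGeometry TopologicalSpace MvPolynomial
open Groth.Agent.Lib

namespace Groth.Agent.Lib.WDivAff85

variable {X : Scheme.{u}} (σ : Type u) (x : X)

/-- `Spec O_x[σ]`. -/
noncomputable abbrev Loc : Scheme.{u} :=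
  Spec (CommRingCat.of (MvPolynomial σ (X.presheaf.stalk x)))

/-- Its projection to `Spec O_x`. -/
noncomputable abbrev qLoc : Loc σ x ⟶ Spec (X.presheaf.stalk x) :=
  Spec.map (CommRingCat.ofHom (C : X.presheaf.stalk x →+* MvPolynomial σ (X.presheaf.stalk x)))

/-- Its map to the affine space. -/
noncomputable def jLoc : Loc σ x ⟶ 𝔸(σ; X) :=
  (AffineSpace.SpecIso σ (X.presheaf.stalk x)).inv ≫ AffineSpace.map σ (X.fromSpecStalk x)

theorem jLoc_over : jLoc σ x ≫ (𝔸(σ; X) ↘ X) = qLoc σ x ≫ X.fromSpecStalk x := by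
  rw [jLoc, Category.assoc, AffineSpace.map_over, AffineSpace.SpecIso_inv_over_assoc]
  rfl

theorem isPullback_jLoc :
    IsPullback (jLoc σ x) (qLoc σ x) (𝔸(σ; X) ↘ X) (X.fromSpecStalk x) :=
  (AffineSpace.isPullback_map (X.fromSpecStalk x)).of_iso
    (AffineSpace.SpecIso σ (X.presheaf.stalk x)) (Iso.refl _) (Iso.refl _) (Iso.refl _)
    (by simp [jLoc]) (by
      rw [Iso.refl_hom, Category.comp_id]
      exact ((Iso.inv_comp_eq _).mp (AffineSpace.SpecIso_inv_over _))) (by simp) (by simp)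

instance : IsPreimmersion (jLoc σ x) :=
  MorphismProperty.of_isPullback (P := @IsPreimmersion) (isPullback_jLoc σ x).flip inferInstance

instance : Flat (jLoc σ x) :=
  MorphismProperty.of_isPullback (P := @Flat) (isPullback_jLoc σ x).flip inferInstance

theorem jLoc_apply (w : Loc σ x) :
    (𝔸(σ; X) ↘ X) (jLoc σ x w) = X.fromSpecStalk x (qLoc σ x w) := by
  rw [← Scheme.Hom.comp_apply, jLoc_over, Scheme.Hom.comp_apply]

theorem exists_jLoc {y : ↥(𝔸(σ; X))} (h : (𝔸(σ; X) ↘ X) y ⤳ x) :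
    ∃ w, jLoc σ x w = y := by
  have hy : (𝔸(σ; X) ↘ X) y ∈ Set.range (X.fromSpecStalk x) := by
    rw [Scheme.range_fromSpecStalk]
    exact h
  obtain ⟨z, hz⟩ := hy
  obtain ⟨w, hw, -⟩ := Scheme.exists_preimage_of_isPullback
    (isPullback_jLoc σ x) y z hz.symm
  exact ⟨w, hw⟩

theorem asIdeal_qLoc (w : Loc σ x) :
    (qLoc σ x w).asIdeal = w.asIdeal.comap (C : X.presheaf.stalk x →+* _) := rfl

theorem qLoc_eq_closed {w : Loc σ x} (h : (𝔸(σ; X) ↘ X) (jLoc σ x w) = x) :
    w.asIdeal.comap (C : X.presheaf.stalk x →+* _) =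
      IsLocalRing.maximalIdeal (X.presheaf.stalk x) := by
  rw [jLoc_apply] at h
  have h2 : qLoc σ x w = IsLocalRing.closedPoint (X.presheaf.stalk x) :=
    (X.fromSpecStalk x).isEmbedding.injective (h.trans Scheme.fromSpecStalk_closedPoint.symm)
  rw [← asIdeal_qLoc, h2]
  rfl

theorem unram_fromSpecStalk (z : Spec (X.presheaf.stalk x)) : Unram (X.fromSpecStalk x) z :=
  unram_of_bijective _ _ (Groth.Agent.H56.SpecStalk.stalkMap_bijective _ _)

theorem unram_over {w : Loc σ x}
    (h : w.asIdeal = (w.asIdeal.comap (C : X.presheaf.stalk x →+* _)).map C) :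
    Unram (𝔸(σ; X) ↘ X) (jLoc σ x w) := by
  refine unram_cancel (f := jLoc σ x)
    (Groth.Agent.H56.SpecStalk.stalkMap_bijective _ _) ?_
  rw [unram_congr (jLoc_over σ x) w]
  exact unram_comp (unram_specMap _ w (by rw [asIdeal_qLoc]; exact h.symm))
    (unram_fromSpecStalk x _)

section integral

variable [IsIntegral X] [IsLocallyNoetherian X] [Finite σ]

theorem p_generic : (𝔸(σ; X) ↘ X) (genericPoint ↥(𝔸(σ; X))) = genericPoint X := by
  obtain ⟨y, hy⟩ := (𝔸(σ; X) ↘ X).surjective (genericPoint X)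
  exact (((genericPoint_specializes y).map (𝔸(σ; X) ↘ X).continuous).trans
    (specializes_of_eq hy)).antisymm (genericPoint_specializes _) |>.eq

theorem exists_codim_one_fibre (hx : Order.coheight x = 1)
    [IsDiscreteValuationRing (X.presheaf.stalk x)] :
    ∃ y : ↥(𝔸(σ; X)), (𝔸(σ; X) ↘ X) y = x ∧ Order.coheight y = 1 := by
  obtain ⟨ϖ, hϖ⟩ := IsDiscreteValuationRing.exists_irreducible (X.presheaf.stalk x)
  have hm := (IsDiscreteValuationRing.irreducible_iff_uniformizer ϖ).mp hϖ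
  haveI := isPrime_map_C (σ := σ) (IsLocalRing.maximalIdeal (X.presheaf.stalk x))
  let w : Loc σ x := ⟨(IsLocalRing.maximalIdeal (X.presheaf.stalk x)).map
    (C : X.presheaf.stalk x →+* MvPolynomial σ (X.presheaf.stalk x)), inferInstance⟩
  refine ⟨jLoc σ x w, ?_, ?_⟩
  · rw [jLoc_apply]
    have : qLoc σ x w = IsLocalRing.closedPoint (X.presheaf.stalk x) :=
      PrimeSpectrum.ext ((asIdeal_qLoc σ x w).trans (comap_map_C _))
    rw [this]
    exact Scheme.fromSpecStalk_closedPoint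
  · rw [coheight_eq, ← idealHeight_eq_coheight]
    show ((IsLocalRing.maximalIdeal (X.presheaf.stalk x)).map C).height = 1
    rw [hm, Ideal.map_span, Set.image_singleton]
    refine Ideal.height_span_singleton_eq_one_of_mem_nonZeroDivisors
      (mem_nonZeroDivisors_of_ne_zero (by simpa using hϖ.ne_zero)) ?_
    intro hu
    have := hu.map (MvPolynomial.constantCoeff (σ := σ) (R := X.presheaf.stalk x))
    rw [constantCoeff_C] at this
    exact hϖ.not_isUnit this

omit [Finite σ] in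
theorem maximalIdeal_ne_bot (hx : x ≠ genericPoint X) :
    IsLocalRing.maximalIdeal (X.presheaf.stalk x) ≠ ⊥ := by
  intro h
  have hf := ringKrullDim_eq_zero_of_isField (IsLocalRing.isField_iff_maximalIdeal_eq.mpr h)
  rw [ringKrullDim_stalk_eq_coheight] at hf
  exact hx (coheight_eq_zero_iff_generic.mp (by exact_mod_cast hf))

theorem codim_one_cases {y : ↥(𝔸(σ; X))} (hy : Order.coheight y = 1)
    (hx : (𝔸(σ; X) ↘ X) y ≠ genericPoint X) :
    Order.coheight ((𝔸(σ; X) ↘ X) y) = 1 ∧ Unram (𝔸(σ; X) ↘ X) y ∧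
      ∀ y' : ↥(𝔸(σ; X)), Order.coheight y' = 1 →
        (𝔸(σ; X) ↘ X) y' = (𝔸(σ; X) ↘ X) y → y' = y := by
  obtain ⟨w, hw⟩ := exists_jLoc σ ((𝔸(σ; X) ↘ X) y) (y := y) specializes_rfl
  have hm := maximalIdeal_ne_bot _ hx
  have key : ∀ v : Loc σ ((𝔸(σ; X) ↘ X) y), Order.coheight (jLoc σ _ v) = 1 →
      (𝔸(σ; X) ↘ X) (jLoc σ _ v) = (𝔸(σ; X) ↘ X) y →
      v.asIdeal = (IsLocalRing.maximalIdeal _).map C ∧
        (IsLocalRing.maximalIdeal (X.presheaf.stalk ((𝔸(σ; X) ↘ X) y))).height = 1 := by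
    intro v hv hv'
    rw [coheight_eq, ← idealHeight_eq_coheight] at hv
    have hc := qLoc_eq_closed σ _ hv'
    have h2 := height_one_comap hv (by rw [hc]; exact hm)
    rw [hc] at h2
    exact h2
  obtain ⟨hwQ, hht⟩ := key w (by rw [hw]; exact hy) (by rw [hw])
  refine ⟨?_, ?_, fun y' hy' he => ?_⟩
  · have := IsLocalRing.maximalIdeal_height_eq_ringKrullDim
      (R := X.presheaf.stalk ((𝔸(σ; X) ↘ X) y))
    rw [hht, ringKrullDim_stalk_eq_coheight] at this
    exact_mod_cast this.symm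
  · have hc := qLoc_eq_closed σ _ (w := w) (by rw [hw])
    have := unram_over σ ((𝔸(σ; X) ↘ X) y) (w := w) (by rw [hc]; exact hwQ)
    rwa [hw] at this
  · obtain ⟨v, hv⟩ := exists_jLoc σ ((𝔸(σ; X) ↘ X) y) (y := y') (specializes_of_eq he)
    have hvQ := (key v (by rw [hv]; exact hy') (by rw [hv]; exact he)).1
    have hvw : v = w := PrimeSpectrum.ext (hvQ.trans hwQ.symm)
    exact hv.symm.trans ((congrArg (jLoc σ _) hvw).trans hw)

theorem dvr_of_codim_one_fibre {y : ↥(𝔸(σ; X))} (hy : Order.coheight y = 1)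
    (hx : (𝔸(σ; X) ↘ X) y ≠ genericPoint X) [IsLocallyNoetherian 𝔸(σ; X)]
    [IsDiscreteValuationRing (X.presheaf.stalk ((𝔸(σ; X) ↘ X) y))] :
    IsDiscreteValuationRing ((𝔸(σ; X)).presheaf.stalk y) := by
  obtain ⟨ϖ, hϖ⟩ := IsDiscreteValuationRing.exists_irreducible
    (X.presheaf.stalk ((𝔸(σ; X) ↘ X) y))
  have hr : Unram (𝔸(σ; X) ↘ X) y := (codim_one_cases σ hy hx).2.1
  rw [Unram, (IsDiscreteValuationRing.irreducible_iff_uniformizer ϖ).mp hϖ, Ideal.map_span,
    Set.image_singleton] at hr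
  have hf : ¬ IsField ((𝔸(σ; X)).presheaf.stalk y) := fun hf => by
    have := ringKrullDim_eq_zero_of_isField hf
    rw [ringKrullDim_stalk_eq_coheight, hy] at this
    exact absurd this (by decide)
  exact ((IsDiscreteValuationRing.TFAE _ hf).out 0 4).mpr
    (⟨⟨_, hr.symm⟩⟩ : (IsLocalRing.maximalIdeal ((𝔸(σ; X)).presheaf.stalk y)).IsPrincipal)

/-- Order of a pulled back function. -/
theorem ord_pullback [IsLocallyNoetherian 𝔸(σ; X)] {y : ↥(𝔸(σ; X))} (hy : Order.coheight y = 1)
    (hx : (𝔸(σ; X) ↘ X) y ≠ genericPoint X)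
    [IsDiscreteValuationRing (X.presheaf.stalk ((𝔸(σ; X) ↘ X) y))] (f : X.functionField) :
    Scheme.ord ((ffMap (𝔸(σ; X) ↘ X) (p_generic σ)).hom f) y =
      Scheme.ord f ((𝔸(σ; X) ↘ X) y) := by
  haveI := dvr_of_codim_one_fibre σ hy hx
  obtain ⟨h1, h2, -⟩ := codim_one_cases σ hy hx
  exact ord_ffMap _ _ y hy h1 h2 f

theorem exists_div_generic [IsLocallyNoetherian 𝔸(σ; X)] (D : ↥(𝔸(σ; X)) → ℤ)
    (hD : ∀ y, Order.coheight y ≠ 1 → D y = 0) (hfin : {y | D y ≠ 0}.Finite) :
    ∃ g : (𝔸(σ; X)).functionField, g ≠ 0 ∧ ∀ y : ↥(𝔸(σ; X)),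
      Order.coheight y = 1 → (𝔸(σ; X) ↘ X) y = genericPoint X → Scheme.ord g y = D y := by
  let K := X.presheaf.stalk (genericPoint X)
  letI : Field K := inferInstanceAs (Field X.functionField)
  set j := jLoc σ (genericPoint X)
  obtain ⟨gw, hgw, hord⟩ := WDivOrd.exists_ord_eq (MvPolynomial σ K) (fun w => D (j w))
    (fun w hw => hD _ fun h => hw ((coheight_eq j w).symm.trans h))
    (hfin.preimage (j.isEmbedding.injective.injOn))
  obtain ⟨g, rfl⟩ := (ffMap_bijective j (map_generic j)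
    (Groth.Agent.H56.SpecStalk.stalkMap_bijective _ _)).2 gw
  refine ⟨g, fun e => hgw (by rw [e]; exact map_zero _), fun y hy hy' => ?_⟩
  obtain ⟨w, rfl⟩ := exists_jLoc σ (genericPoint X) (y := y) (specializes_of_eq hy')
  have hw : Order.coheight w = 1 := (coheight_eq j w).symm.trans hy
  haveI := dvr_of_ufd (CommRingCat.of (MvPolynomial σ K)) w hw
  exact (ord_ffMap' j w hw g).symm.trans (hord w hw)

theorem exists_eq_pullback [IsLocallyNoetherian 𝔸(σ; X)] (g : (𝔸(σ; X)).functionField) (hg : g ≠ 0)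
    (h : ∀ y : ↥(𝔸(σ; X)), Order.coheight y = 1 → (𝔸(σ; X) ↘ X) y = genericPoint X →
      Scheme.ord g y = 0) :
    ∃ f : X.functionField, f ≠ 0 ∧ (ffMap (𝔸(σ; X) ↘ X) (p_generic σ)).hom f = g := by
  let K := X.presheaf.stalk (genericPoint X)
  letI : Field K := inferInstanceAs (Field X.functionField)
  haveI : Subsingleton ↥(Spec K) := inferInstanceAs (Subsingleton (PrimeSpectrum X.functionField))
  set j := jLoc σ (genericPoint X)
  set p : 𝔸(σ; X) ⟶ X := 𝔸(σ; X) ↘ X
  set q := qLoc σ (genericPoint X)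
  set fs := X.fromSpecStalk (genericPoint X)
  haveI hdomK : IsDomain (CommRingCat.of (MvPolynomial σ K)) :=
    inferInstanceAs (IsDomain (MvPolynomial σ K))
  haveI : IsDomain ↑(X.presheaf.stalk (genericPoint X)) := inferInstance
  have hq : q (genericPoint (Loc σ (genericPoint X))) = genericPoint (Spec K) := Subsingleton.elim _ _
  have hfs : fs (genericPoint (Spec K)) = genericPoint X := map_generic fs
  obtain ⟨a, ha, hga⟩ := isUnit_of_ord_eq_zero (CommRingCat.of (MvPolynomial σ K))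
    ((ffMap j (map_generic j)).hom g) (fun e => hg (ffMap_injective j _ (e.trans (map_zero _).symm)))
    (fun w hw => by
      haveI := dvr_of_ufd (CommRingCat.of (MvPolynomial σ K)) w hw
      rw [ord_ffMap' j w hw g]
      have hy : Order.coheight (j w) = 1 := (coheight_eq j w).trans hw
      refine h _ hy ?_
      rw [jLoc_apply]
      have : qLoc σ (genericPoint X) w = IsLocalRing.closedPoint _ := Subsingleton.elim _ _
      rw [this]
      exact Scheme.fromSpecStalk_closedPoint)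
  obtain ⟨c, -, hc⟩ := MvPolynomial.isUnit_iff_eq_C_of_isReduced.mp ha
  obtain ⟨f, hf⟩ := (ffMap_bijective fs hfs
    (Groth.Agent.H56.SpecStalk.stalkMap_bijective _ _)).2
      ((Spec K).presheaf.germ ⊤ (genericPoint (Spec K)) trivial ((Scheme.ΓSpecIso K).inv c))
  refine ⟨f, fun e => ?_, ?_⟩
  all_goals
    have key : (ffMap j (map_generic j)).hom ((ffMap p (p_generic σ)).hom f) =
        (ffMap j (map_generic j)).hom g := by
      have hjp : (j ≫ p) (genericPoint _) = genericPoint X := by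
        rw [Scheme.Hom.comp_apply, map_generic j]; exact p_generic σ
      have hqfs : (q ≫ fs) (genericPoint _) = genericPoint X := by
        rw [Scheme.Hom.comp_apply, hq]; exact hfs
      have e : ffMap p (p_generic σ) ≫ ffMap j (map_generic j) =
          ffMap fs hfs ≫ ffMap q hq := by
        rw [← ffMap_comp j p (map_generic j) (p_generic σ) hjp,
          ← ffMap_comp q fs hq hfs hqfs]
        exact ffMap_congr (jLoc_over σ (genericPoint X)) _ _
      refine (congr($e f)).trans ?_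
      rw [hga, hc, CommRingCat.comp_apply]
      show (ffMap q hq).hom ((ffMap fs hfs).hom f) = _
      rw [hf, ffMap, CommRingCat.hom_comp, RingHom.comp_apply, TopCat.Presheaf.germ_stalkSpecializes_apply]
      erw [Scheme.Hom.germ_stalkMap_apply]
      have n1 := congr($(Scheme.ΓSpecIso_inv_naturality
        (CommRingCat.ofHom (C : K →+* MvPolynomial σ K))) c)
      exact congrArg _ n1.symm
  · rw [e, map_zero, map_zero] at key
    exact hg (ffMap_injective j _ (key.symm.trans (map_zero _).symm))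
  · exact ffMap_injective j _ key

end integral

end Groth.Agent.Lib.WDivAff85
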