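import Groth.Agent.Lib.WDivOrd.Basic
import Groth.Agent.H56.SpecStalk
import Mathlib.AlgebraicGeometry.AffineSpace

/-!
# Function fields along maps preserving generic points; orders; codimension one points
-/

set_option autoImplicit false
universe u
open CategoryTheory AlgebraicGeometry TopologicalSpace
open Groth.Agent.Lib

namespace Groth.Agent.Lib.WDivAff85

section order

variable {X : Scheme.{u}} [IsIntegral X]

theorem coheight_eq_zero_iff_generic {z : X} :
    Order.coheight z = 0 ↔ z = genericPoint X := by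
  constructor
  · intro h
    have hz : IsMax z := Order.coheight_eq_zero.mp h
    have : z ⤳ genericPoint X := hz (genericPoint_specializes z)
    exact (this.antisymm (genericPoint_specializes z)).eq
  · rintro rfl
    exact Order.coheight_eq_zero.mpr fun b _ => genericPoint_specializes b

theorem eq_generic_or_eq {y z : X} (hy : Order.coheight y = 1) (h : z ⤳ y) :
    z = genericPoint X ∨ z = y := by
  rcases eq_or_ne z y with hzy | hzy
  · exact Or.inr hzy
  left
  have hlt : y < z := lt_of_le_not_ge h fun h' => hzy ((h.antisymm h').eq)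
  have := Order.coheight_add_one_le hlt
  rw [hy] at this
  rw [← coheight_eq_zero_iff_generic]
  by_contra h0
  have h1 : (1 : ℕ∞) ≤ Order.coheight z := ENat.one_le_iff_ne_zero.mpr h0
  have h2 : (1 : ℕ∞) + 1 ≤ 1 := le_trans (by gcongr) this
  exact absurd h2 (by decide)

theorem finite_coheight_one_not_mem [NoetherianSpace X] {U : X.Opens}
    (hU : genericPoint X ∈ U) : {y : X | Order.coheight y = 1 ∧ y ∉ U}.Finite := by
  obtain ⟨S, hS, hcl, hirr, heq⟩ :=
    NoetherianSpace.exists_finite_set_isClosed_irreducible U.isOpen.isClosed_compl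
  refine Set.Finite.of_finite_image (f := fun y : X => closure ({y} : Set X)) (hS.subset ?_) ?_
  · rintro _ ⟨y, ⟨hy, hyU⟩, rfl⟩
    have hyS : y ∈ ⋃₀ S := heq ▸ (show y ∈ (U : Set X)ᶜ from hyU)
    obtain ⟨Z, hZ, hyZ⟩ := hyS
    obtain ⟨z, hz⟩ := QuasiSober.sober (hirr Z hZ) (hcl Z hZ)
    have hzy : z ⤳ y := hz.specializes hyZ
    have hzne : z ≠ genericPoint X := fun e => by
      have hzU : z ∈ (U : Set X)ᶜ := heq ▸ ⟨Z, hZ, hz.mem⟩
      exact hzU (e ▸ hU)
    rcases eq_generic_or_eq hy hzy with e | e
    · exact absurd e hzne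
    · show closure {y} ∈ S
      rw [← e, show closure {z} = Z from hz]
      exact hZ
  · intro a _ b _ h
    have : Inseparable a b := inseparable_iff_closure_eq.mpr h
    exact this.eq

theorem finite_ord_ne_zero [IsLocallyNoetherian X] [NoetherianSpace X] {a : X.functionField}
    (ha : a ≠ 0) : {y : X | Scheme.ord a y ≠ 0}.Finite := by
  obtain ⟨V, hV, f, rfl⟩ := TopCat.Presheaf.exists_germ_eq X.presheaf a
  have hη : genericPoint X ∈ X.basicOpen f :=
    (X.mem_basicOpen f _ hV).mpr (isUnit_iff_ne_zero.mpr ha)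
  refine (finite_coheight_one_not_mem hη).subset fun y hy => ⟨?_, fun hyf => hy ?_⟩
  · by_contra h
    exact hy (Scheme.ord_eq_zero_of_coheight_neq_one h _)
  · haveI : Nonempty (X.basicOpen f) := ⟨⟨_, hη⟩⟩
    have hu : IsUnit (X.presheaf.map (homOfLE (X.basicOpen_le f)).op f) :=
      AlgebraicGeometry.RingedSpace.isUnit_res_basicOpen _ f
    have := Scheme.ord_of_isUnit hu hyf
    rw [Scheme.germToFunctionField, TopCat.Presheaf.germ_res_apply] at this
    exact this

end order

section unram

/-- The maximal ideal generates the maximal ideal upstairs. -/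
def Unram {Y X : Scheme.{u}} (f : Y ⟶ X) (u : Y) : Prop :=
  (IsLocalRing.maximalIdeal (X.presheaf.stalk (f u))).map (f.stalkMap u).hom =
    IsLocalRing.maximalIdeal (Y.presheaf.stalk u)

variable {Y X Z : Scheme.{u}}

theorem unram_congr {f g : Y ⟶ X} (e : f = g) (u : Y) : Unram f u ↔ Unram g u := by subst e; rfl

theorem map_maximalIdeal_of_bijective {R S : Type u} [CommRing R] [CommRing S] [IsLocalRing R]
    [IsLocalRing S] (φ : R →+* S) [IsLocalHom φ] (h : Function.Bijective φ) :
    (IsLocalRing.maximalIdeal R).map φ = IsLocalRing.maximalIdeal S := by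
  refine le_antisymm (((IsLocalRing.local_hom_TFAE φ).out 0 2).mp ‹_›) fun b hb => ?_
  obtain ⟨a, rfl⟩ := h.2 b
  refine Ideal.mem_map_of_mem _ ?_
  rw [IsLocalRing.mem_maximalIdeal, mem_nonunits_iff] at hb ⊢
  exact fun ha => hb (ha.map φ)

theorem unram_of_bijective (f : Y ⟶ X) (u : Y) (h : Function.Bijective (f.stalkMap u)) :
    Unram f u :=
  map_maximalIdeal_of_bijective (f.stalkMap u).hom h

theorem map_comp_maximal (f : Y ⟶ X) (g : X ⟶ Z) (u : Y) :
    (IsLocalRing.maximalIdeal (Z.presheaf.stalk ((f ≫ g) u))).map ((f ≫ g).stalkMap u).hom =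
      ((IsLocalRing.maximalIdeal (Z.presheaf.stalk (g (f u)))).map (g.stalkMap (f u)).hom).map
        (f.stalkMap u).hom := by
  rw [Scheme.Hom.stalkMap_comp]
  exact (Ideal.map_map (g.stalkMap (f u)).hom (f.stalkMap u).hom).symm

theorem unram_comp {f : Y ⟶ X} {g : X ⟶ Z} {u : Y} (hf : Unram f u) (hg : Unram g (f u)) :
    Unram (f ≫ g) u := by
  unfold Unram at *
  rw [map_comp_maximal, hg, hf]

theorem unram_cancel {f : Y ⟶ X} {g : X ⟶ Z} {u : Y}
    (hf : Function.Bijective (f.stalkMap u)) (h : Unram (f ≫ g) u) : Unram g (f u) := by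
  unfold Unram at *
  rw [map_comp_maximal] at h
  have hinj : Function.Injective (Ideal.map (f.stalkMap u).hom) := by
    intro I J e
    have := congrArg (Ideal.comap (f.stalkMap u).hom) e
    rwa [Ideal.comap_map_of_bijective _ hf, Ideal.comap_map_of_bijective _ hf] at this
  exact hinj (h.trans (unram_of_bijective f u hf).symm)

end unram

section ff

variable {Y X Z : Scheme.{u}} [IsIntegral Y] [IsIntegral X] [IsIntegral Z]

/-- Map of function fields along a map sending generic point to generic point. -/
noncomputable def ffMap (f : Y ⟶ X) (h : f (genericPoint Y) = genericPoint X) :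
    X.functionField ⟶ Y.functionField :=
  X.presheaf.stalkSpecializes (Inseparable.of_eq h).specializes ≫ f.stalkMap (genericPoint Y)

theorem ffMap_algebraMap (f : Y ⟶ X) (h : f (genericPoint Y) = genericPoint X) (u : Y)
    (a : X.presheaf.stalk (f u)) :
    (ffMap f h).hom (algebraMap (X.presheaf.stalk (f u)) X.functionField a) =
      algebraMap (Y.presheaf.stalk u) Y.functionField ((f.stalkMap u).hom a) := by
  show (X.presheaf.stalkSpecializes ((genericPoint_spec X).specializes trivial) ≫ ffMap f h) a =
    (f.stalkMap u ≫ Y.presheaf.stalkSpecializes ((genericPoint_spec Y).specializes trivial)) a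
  rw [← Scheme.Hom.stalkSpecializes_stalkMap f (genericPoint Y) u
    ((genericPoint_spec Y).specializes trivial), ffMap, TopCat.Presheaf.stalkSpecializes_comp_assoc]

theorem ffMap_congr {f g : Y ⟶ X} (e : f = g) (h : f (genericPoint Y) = genericPoint X)
    (h' : g (genericPoint Y) = genericPoint X) : ffMap f h = ffMap g h' := by subst e; rfl

theorem ffMap_comp (f : Y ⟶ X) (g : X ⟶ Z) (hf : f (genericPoint Y) = genericPoint X)
    (hg : g (genericPoint X) = genericPoint Z)
    (hfg : (f ≫ g) (genericPoint Y) = genericPoint Z) :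
    ffMap (f ≫ g) hfg = ffMap g hg ≫ ffMap f hf := by
  simp only [ffMap, Category.assoc]
  rw [Scheme.Hom.stalkMap_comp,
    ← Scheme.Hom.stalkSpecializes_stalkMap_assoc g (f (genericPoint Y)) (genericPoint X)
      (Inseparable.of_eq hf).specializes, TopCat.Presheaf.stalkSpecializes_comp_assoc]
  rfl

theorem ffMap_injective (f : Y ⟶ X) (h : f (genericPoint Y) = genericPoint X) :
    Function.Injective (ffMap f h).hom :=
  RingHom.injective (ffMap f h).hom

theorem ffMap_bijective (f : Y ⟶ X) (h : f (genericPoint Y) = genericPoint X)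
    (hb : Function.Bijective (f.stalkMap (genericPoint Y))) :
    Function.Bijective (ffMap f h).hom := by
  haveI : IsIso (f.stalkMap (genericPoint Y)) := (ConcreteCategory.isIso_iff_bijective _).mpr hb
  haveI : IsIso (X.presheaf.stalkSpecializes (Inseparable.of_eq h).specializes) :=
    (X.presheaf.stalkCongr (Inseparable.of_eq h.symm)).isIso_hom
  haveI : IsIso (ffMap f h) := IsIso.comp_isIso
  exact ConcreteCategory.bijective_of_isIso (ffMap f h)

theorem ordFrac_map_of_irreducible {R R' K K' : Type u} [CommRing R] [CommRing R'] [IsDomain R]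
    [IsDomain R'] [IsDiscreteValuationRing R] [IsDiscreteValuationRing R'] [Field K] [Field K']
    [Algebra R K] [IsFractionRing R K] [Algebra R' K'] [IsFractionRing R' K'] (φ : R →+* R')
    (θ : K →+* K') {ϖ : R} (hϖ : Irreducible ϖ) (hϖ' : Irreducible (φ ϖ))
    (h : ∀ a, θ (algebraMap R K a) = algebraMap R' K' (φ a)) (x : K) :
    Ring.ordFrac R' (θ x) = Ring.ordFrac R x := by
  have key : ∀ a : R, Ring.ordFrac R' (θ (algebraMap R K a)) = Ring.ordFrac R (algebraMap R K a) := by
    intro a
    rcases eq_or_ne a 0 with rfl | ha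
    · simp
    obtain ⟨n, u, rfl⟩ := IsDiscreteValuationRing.eq_unit_mul_pow_irreducible ha hϖ
    rw [h]
    simp only [map_mul, map_pow]
    rw [Ring.ordFrac_of_isUnit u.isUnit, Ring.ordFrac_of_isUnit (u.isUnit.map φ),
      Ring.ordFrac_irreducible hϖ, Ring.ordFrac_irreducible hϖ']
  obtain ⟨a, b, -, rfl⟩ := IsFractionRing.div_surjective (A := R) x
  rw [map_div₀, map_div₀, map_div₀, key, key]

theorem ord_ffMap [IsLocallyNoetherian Y] [IsLocallyNoetherian X] (f : Y ⟶ X)
    (h : f (genericPoint Y) = genericPoint X) (u : Y) (hu : Order.coheight u = 1)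
    (hfu : Order.coheight (f u) = 1) [IsDiscreteValuationRing (X.presheaf.stalk (f u))]
    [IsDiscreteValuationRing (Y.presheaf.stalk u)] (hr : Unram f u) (g : X.functionField) :
    Scheme.ord ((ffMap f h).hom g) u = Scheme.ord g (f u) := by
  rw [Scheme.ord_eq_ordHom_of_coheight_eq_one hu, Scheme.ord_eq_ordHom_of_coheight_eq_one hfu]
  obtain ⟨ϖ, hϖ⟩ := IsDiscreteValuationRing.exists_irreducible (X.presheaf.stalk (f u))
  have hϖ' : Irreducible ((f.stalkMap u).hom ϖ) := by
    rw [IsDiscreteValuationRing.irreducible_iff_uniformizer] at hϖ ⊢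
    rw [Unram, hϖ, Ideal.map_span, Set.image_singleton] at hr
    exact hr.symm
  have := ordFrac_map_of_irreducible (K := X.functionField) (K' := Y.functionField)
    (f.stalkMap u).hom (ffMap f h).hom hϖ hϖ' (ffMap_algebraMap f h u) g
  show Multiplicative.toAdd ((Ring.ordFrac (Y.presheaf.stalk u) _).unzeroD 1) = _
  rw [this]
  rfl

end ff

section stalkIso

variable {W P : Scheme.{u}} (j : W ⟶ P) [Flat j] [IsPreimmersion j]

theorem coheight_eq (w : W) : Order.coheight (j w) = Order.coheight w := by
  have e : ringKrullDim (P.presheaf.stalk (j w)) = ringKrullDim (W.presheaf.stalk w) :=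
    ringKrullDim_eq_of_ringEquiv
      (RingEquiv.ofBijective (j.stalkMap w).hom (Groth.Agent.H56.SpecStalk.stalkMap_bijective j w))
  rw [ringKrullDim_stalk_eq_coheight, ringKrullDim_stalk_eq_coheight] at e
  exact WithBot.coe_eq_coe.mp e

theorem map_generic [IsIntegral W] [IsIntegral P] : j (genericPoint W) = genericPoint P := by
  rw [← coheight_eq_zero_iff_generic, coheight_eq, coheight_eq_zero_iff_generic]

theorem dvr_map (w : W) [IsIntegral W] [IsIntegral P] [IsDiscreteValuationRing (W.presheaf.stalk w)] :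
    IsDiscreteValuationRing (P.presheaf.stalk (j w)) :=
  IsDiscreteValuationRing.RingEquivClass.isDiscreteValuationRing
    (RingEquiv.ofBijective (j.stalkMap w).hom (Groth.Agent.H56.SpecStalk.stalkMap_bijective j w)).symm

theorem ord_ffMap' [IsIntegral W] [IsIntegral P] [IsLocallyNoetherian W] [IsLocallyNoetherian P]
    (w : W) [IsDiscreteValuationRing (W.presheaf.stalk w)] (hw : Order.coheight w = 1)
    (g : P.functionField) :
    Scheme.ord ((ffMap j (map_generic j)).hom g) w = Scheme.ord g (j w) := by
  haveI := dvr_map j w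
  exact ord_ffMap j _ w hw ((coheight_eq j w).trans hw)
    (unram_of_bijective j w (Groth.Agent.H56.SpecStalk.stalkMap_bijective j w)) g

end stalkIso

end Groth.Agent.Lib.WDivAff85
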