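import Groth.Agent.Lib.WDivAff85.Affine
import Groth.Agent.Lib.ProjSpace.Basic

/-!
# Weil divisors on `P^n_A`
-/

set_option autoImplicit false
set_option linter.style.haveILetI false
universe u
open CategoryTheory CategoryTheory.Limits AlgebraicGeometry TopologicalSpace MvPolynomial
open Groth.Agent.Lib

namespace Groth.Agent.Lib.WDivAff85

section general

theorem dvr_affineSpace {X : Scheme.{u}} [IsIntegral X] [IsLocallyNoetherian X] (σ : Type u)
    [Finite σ] [IsLocallyNoetherian 𝔸(σ; X)]
    (hR1 : ∀ x : ↥X, Order.coheight x = 1 → IsDiscreteValuationRing ↑(X.presheaf.stalk x))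
    {y : ↥(𝔸(σ; X))} (hy : Order.coheight y = 1) :
    IsDiscreteValuationRing ((𝔸(σ; X)).presheaf.stalk y) := by
  by_cases hy' : (𝔸(σ; X) ↘ X) y = genericPoint X
  · let K := X.presheaf.stalk (genericPoint X)
    letI : Field K := inferInstanceAs (Field X.functionField)
    obtain ⟨w, rfl⟩ := exists_jLoc σ (genericPoint X) (y := y) (specializes_of_eq hy')
    have hw : Order.coheight w = 1 := (coheight_eq _ w).symm.trans hy
    haveI := dvr_of_ufd (CommRingCat.of (MvPolynomial σ K)) w hw
    exact dvr_map _ w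
  · haveI := hR1 _ (codim_one_cases σ hy hy').1
    exact dvr_of_codim_one_fibre σ hy hy'

theorem ord_ffMap_eq_zero {Y X : Scheme.{u}} [IsIntegral Y] [IsIntegral X] [IsLocallyNoetherian Y]
    (p : Y ⟶ X) (h : p (genericPoint Y) = genericPoint X) (y : Y) (hy : p y = genericPoint X)
    {f : X.functionField} (hf : f ≠ 0) : Scheme.ord ((ffMap p h).hom f) y = 0 := by
  by_cases hy1 : Order.coheight y = 1
  · haveI : IsIso (X.presheaf.stalkSpecializes
        ((genericPoint_spec X).specializes (trivial : p y ∈ _))) :=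
      (X.presheaf.stalkCongr (Inseparable.of_eq hy)).isIso_hom
    obtain ⟨a, ha⟩ := (ConcreteCategory.bijective_of_isIso (X.presheaf.stalkSpecializes
        ((genericPoint_spec X).specializes (trivial : p y ∈ _)))).2 f
    have haf : algebraMap (X.presheaf.stalk (p y)) X.functionField a = f := ha
    have ha0 : a ≠ 0 := fun e => hf (by rw [← haf, e, map_zero])
    have hfld : IsField (X.presheaf.stalk (p y)) := by
      have e := ringKrullDim_stalk_eq_coheight (p y)
      rw [coheight_eq_zero_iff_generic.mpr hy] at e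
      haveI : Ring.KrullDimLE 0 (X.presheaf.stalk (p y)) :=
        (Ring.krullDimLE_iff).mpr (by rw [e]; rfl)
      exact Ring.KrullDimLE.isField_of_isDomain
    obtain ⟨b, hb⟩ := hfld.mul_inv_cancel ha0
    have hu : IsUnit a := IsUnit.of_mul_eq_one b hb
    rw [← haf, ffMap_algebraMap, Scheme.ord_eq_iff hy1]
    · haveI : Ring.KrullDimLE 1 (Y.presheaf.stalk y) := krullDimLE_of_coheight_le hy1.le
      exact Ring.ordFrac_of_isUnit (hu.map (p.stalkMap y).hom)
    · exact (map_ne_zero_iff _ (IsFractionRing.injective _ _)).mpr (hu.map (p.stalkMap y).hom).ne_zero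
  · exact Scheme.ord_eq_zero_of_coheight_neq_one hy1 _

theorem ord_inv' {X : Scheme.{u}} [IsIntegral X] [IsLocallyNoetherian X] (x : X)
    {g : X.functionField} (hg : g ≠ 0) : Scheme.ord g⁻¹ x = - Scheme.ord g x := by
  have h1 : Scheme.ord (1 : X.functionField) x = 0 := by
    have := Scheme.ord_mul (X := X) (x := x) (one_ne_zero (α := X.functionField)) one_ne_zero
    rw [mul_one] at this
    omega
  have := Scheme.ord_mul (X := X) (x := x) hg (inv_ne_zero hg)
  rw [mul_inv_cancel₀ hg, h1] at this
  omega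

end general

section proj

variable (A : Type u) [CommRing A] (n : ℕ)

/-- The chart `X₀ ≠ 0` as an affine space. -/
noncomputable def chart : 𝔸(ULift.{u} (Fin n); Spec (CommRingCat.of A)) ⟶ CohB1.ProjSpace n A :=
  (AffineSpace.SpecIso (ULift.{u} (Fin n)) (CommRingCat.of A)).hom ≫
    Spec.map (CommRingCat.ofHom
      (MvPolynomial.renameEquiv A (Equiv.ulift.symm : Fin n ≃ ULift.{u} (Fin n))).toRingEquiv.toRingHom) ≫
    ProjSpace.Basic.chartι A 0

instance : IsOpenImmersion (chart A n) := by
  haveI : IsIso (CommRingCat.ofHom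
      (MvPolynomial.renameEquiv A (Equiv.ulift.symm : Fin n ≃ ULift.{u} (Fin n))).toRingEquiv.toRingHom) :=
    (MvPolynomial.renameEquiv A
      (Equiv.ulift.symm : Fin n ≃ ULift.{u} (Fin n))).toRingEquiv.toCommRingCatIso.isIso_hom
  unfold chart
  infer_instance

theorem chart_toSpec : chart A n ≫ CohB1.ProjSpace.toSpec n A =
    𝔸(ULift.{u} (Fin n); Spec (CommRingCat.of A)) ↘ Spec (CommRingCat.of A) := by
  rw [chart, Category.assoc, Category.assoc, ProjSpace.Basic.chartι_toSpec, ← Spec.map_comp,
    ← CommRingCat.ofHom_comp, ← Iso.eq_inv_comp, AffineSpace.SpecIso_inv_over]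
  congr 2
  ext r
  simp

theorem range_chart : Set.range (chart A n) =
    SetLike.coe (Proj.basicOpen (CohB1.polyGrading n A) (MvPolynomial.X (0 : Fin (n + 1)))) := by
  haveI : IsIso (CommRingCat.ofHom
      (MvPolynomial.renameEquiv A (Equiv.ulift.symm : Fin n ≃ ULift.{u} (Fin n))).toRingEquiv.toRingHom) :=
    (MvPolynomial.renameEquiv A
      (Equiv.ulift.symm : Fin n ≃ ULift.{u} (Fin n))).toRingEquiv.toCommRingCatIso.isIso_hom
  refine Eq.trans ?_ (congrArg SetLike.coe (ProjSpace.Basic.opensRange_chartι (n := n) A 0))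
  show Set.range (chart A n) = Set.range (ProjSpace.Basic.chartι A (0 : Fin (n + 1)))
  rw [chart, ← Category.assoc, Scheme.Hom.comp_base, TopCat.coe_comp]
  refine Function.Surjective.range_comp ?_ _
  exact (Scheme.Hom.surjective _)

theorem mem_range_chart {y : ↥(CohB1.ProjSpace n A)}
    (h : (MvPolynomial.X 0 : MvPolynomial (Fin (n + 1)) A) ∉ y.asHomogeneousIdeal.toIdeal) :
    ∃ u, chart A n u = y := by
  show y ∈ Set.range (chart A n)
  rw [range_chart]
  exact h

theorem X0_notMem_chart (u : ↥(𝔸(ULift.{u} (Fin n); Spec (CommRingCat.of A)))) :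
    (MvPolynomial.X 0 : MvPolynomial (Fin (n + 1)) A) ∉
      (chart A n u).asHomogeneousIdeal.toIdeal := by
  have hy : chart A n u ∈ Set.range (chart A n) := ⟨u, rfl⟩
  rw [range_chart] at hy
  exact hy

variable [IsDomain A] [IsIntegral (CohB1.ProjSpace n A)] [IsIntegral (Spec (CommRingCat.of A))]
  (H : ↥(CohB1.ProjSpace n A))
  (hH : H.asHomogeneousIdeal.toIdeal =
    Ideal.span {(MvPolynomial.X 0 : MvPolynomial (Fin (n + 1)) A)})

include hH in
theorem X0_mem : (MvPolynomial.X 0 : MvPolynomial (Fin (n + 1)) A) ∈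
    H.asHomogeneousIdeal.toIdeal := hH ▸ Ideal.mem_span_singleton_self _

include hH in
theorem H_ne_chart (u : ↥(𝔸(ULift.{u} (Fin n); Spec (CommRingCat.of A)))) : chart A n u ≠ H :=
  fun e => X0_notMem_chart A n u (e ▸ X0_mem A n H hH)

include hH in
theorem exists_chart {y : ↥(CohB1.ProjSpace n A)} (hy : Order.coheight y = 1) (hne : y ≠ H) :
    ∃ u, Order.coheight u = 1 ∧ chart A n u = y := by
  obtain ⟨u, rfl⟩ := mem_range_chart A n (y := y) fun hmem => by
    have hHy : H ⤳ y := by
      rw [specializes_iff_mem_closure]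
      refine (ProjectiveSpectrum.le_iff_mem_closure (CohB1.polyGrading n A) H y).mp ?_
      show H.asHomogeneousIdeal.toIdeal ≤ y.asHomogeneousIdeal.toIdeal
      rw [hH, Ideal.span_le, Set.singleton_subset_iff]
      exact hmem
    rcases eq_generic_or_eq hy hHy with e | e
    · obtain ⟨u⟩ := (inferInstance : Nonempty ↥(𝔸(ULift.{u} (Fin n); Spec (CommRingCat.of A))))
      have hs : genericPoint ↥(CohB1.ProjSpace n A) ∈ (chart A n).opensRange :=
        (genericPoint_specializes _).mem_open (chart A n).opensRange.isOpen ⟨u, rfl⟩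
      obtain ⟨v, hv⟩ := hs
      exact H_ne_chart A n H hH v (hv.trans e.symm)
    · exact hne e.symm
  exact ⟨u, (coheight_eq_of_isOpenImmersion (chart A n)).symm.trans hy, rfl⟩

theorem toSpec_generic : CohB1.ProjSpace.toSpec n A (genericPoint ↥(CohB1.ProjSpace n A)) =
    genericPoint ↥(Spec (CommRingCat.of A)) := by
  rw [← map_generic (chart A n), ← Scheme.Hom.comp_apply, chart_toSpec]
  obtain ⟨y, hy⟩ := (𝔸(ULift.{u} (Fin n); Spec (CommRingCat.of A)) ↘
    Spec (CommRingCat.of A)).surjective (genericPoint ↥(Spec (CommRingCat.of A)))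
  exact ((((genericPoint_specializes y).map (𝔸(ULift.{u} (Fin n); Spec (CommRingCat.of A)) ↘
    Spec (CommRingCat.of A)).continuous).trans (specializes_of_eq hy)).antisymm
      (genericPoint_specializes _)).eq

include hH in
omit [IsIntegral (CohB1.ProjSpace n A)] in
theorem toSpec_H (hn : 1 ≤ n) :
    CohB1.ProjSpace.toSpec n A H = genericPoint ↥(Spec (CommRingCat.of A)) := by
  apply coheight_eq_zero_iff_generic.mp
  have hz : (CohB1.ProjSpace.toSpec n A H).asIdeal = ⊥ := by
    rw [eq_bot_iff]
    intro a ha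
    by_contra ha0
    replace ha0 : a ≠ 0 := fun e => ha0 (by rw [e]; exact Ideal.zero_mem _)
    let i1 : Fin (n + 1) := ⟨1, by omega⟩
    set g : MvPolynomial (Fin (n + 1)) A := X i1 * C a
    have hg1 : g ∈ CohB1.polyGrading n A (1 + 0) :=
      SetLike.mul_mem_graded (isHomogeneous_X A i1) (isHomogeneous_C _ a)
    have hgH : H ∈ Proj.basicOpen (CohB1.polyGrading n A) g := by
      show g ∉ H.asHomogeneousIdeal.toIdeal
      rw [hH, Ideal.mem_span_singleton]
      intro hd
      rcases (MvPolynomial.X_prime (R := A) (i := (0 : Fin (n + 1)))).dvd_or_dvd hd with h | h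
      · rw [X_dvd_X] at h
        simp [i1, Fin.ext_iff] at h
      · rw [X_dvd_iff_modMonomial_eq_zero] at h
        apply ha0
        have h' := congrArg (coeff 0) h
        rwa [coeff_modMonomial_of_not_le _ (by simp), coeff_C, if_pos rfl, coeff_zero] at h'
    rw [← Proj.opensRange_awayι (CohB1.polyGrading n A) g hg1 (by omega)] at hgH
    obtain ⟨v, rfl⟩ := hgH
    have e := Proj.awayι_toSpecZero (CohB1.polyGrading n A) g hg1 (by omega : 0 < 1 + 0)
    have ha' : HomogeneousLocalization.fromZeroRingHom (CohB1.polyGrading n A) (Submonoid.powers g)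
        (algebraMap A (CohB1.polyGrading n A 0) a) ∈ v.asIdeal := by
      have h1 : CohB1.ProjSpace.toSpec n A (Proj.awayι (CohB1.polyGrading n A) g hg1 (by omega) v) =
          Spec.map (CommRingCat.ofHom (algebraMap A (CohB1.polyGrading n A 0)))
            (Spec.map (CommRingCat.ofHom (HomogeneousLocalization.fromZeroRingHom
              (CohB1.polyGrading n A) (Submonoid.powers g))) v) := by
        rw [CohB1.ProjSpace.toSpec, ← e]
        rfl
      rw [h1] at ha
      exact ha
    refine v.isPrime.ne_top (Ideal.eq_top_of_isUnit_mem _ ha' (IsUnit.of_mul_eq_one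
      (HomogeneousLocalization.Away.mk (CohB1.polyGrading n A) hg1 1 (X i1)
        (by rw [show (1 : ℕ) • (1 + 0) = 1 from rfl]; exact isHomogeneous_X A i1)) ?_))
    apply HomogeneousLocalization.val_injective
    rw [HomogeneousLocalization.val_mul, HomogeneousLocalization.Away.val_mk,
      HomogeneousLocalization.val_one]
    show Localization.mk (C a) 1 * Localization.mk (X i1) _ = 1
    rw [Localization.mk_mul, one_mul]
    convert Localization.mk_self (⟨g, 1, pow_one g⟩ : Submonoid.powers g) using 2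
    · exact mul_comm _ _
    · exact Subtype.ext (pow_one g)
  rw [← idealHeight_eq_coheight, hz, Ideal.height_bot]

variable [IsNoetherianRing A] [IsLocallyNoetherian (CohB1.ProjSpace n A)]
  (hR1 : ∀ x : ↥(Spec (CommRingCat.of A)), Order.coheight x = 1 →
    IsDiscreteValuationRing ↑((Spec (CommRingCat.of A)).presheaf.stalk x))

include hR1 in
theorem ord_chart [IsLocallyNoetherian 𝔸(ULift.{u} (Fin n); Spec (CommRingCat.of A))]
    {u : ↥(𝔸(ULift.{u} (Fin n); Spec (CommRingCat.of A)))} (hu : Order.coheight u = 1)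
    (g : (CohB1.ProjSpace n A).functionField) :
    Scheme.ord ((ffMap (chart A n) (map_generic _)).hom g) u = Scheme.ord g (chart A n u) := by
  haveI := dvr_affineSpace (ULift.{u} (Fin n)) hR1 hu
  exact ord_ffMap' (chart A n) u hu g

omit [IsDomain A] [IsIntegral (CohB1.ProjSpace n A)] [IsIntegral (Spec (CommRingCat.of A))]
  [IsLocallyNoetherian (CohB1.ProjSpace n A)] in
theorem isLocallyNoetherian_chart :
    IsLocallyNoetherian 𝔸(ULift.{u} (Fin n); Spec (CommRingCat.of A)) :=
  LocallyOfFiniteType.isLocallyNoetherian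
    (𝔸(ULift.{u} (Fin n); Spec (CommRingCat.of A)) ↘ Spec (CommRingCat.of A))

theorem toSpec_chart (u : ↥(𝔸(ULift.{u} (Fin n); Spec (CommRingCat.of A)))) :
    CohB1.ProjSpace.toSpec n A (chart A n u) =
      (𝔸(ULift.{u} (Fin n); Spec (CommRingCat.of A)) ↘ Spec (CommRingCat.of A)) u := by
  rw [← Scheme.Hom.comp_apply, chart_toSpec]

include hH hR1 in
theorem principal_proj (hn : 1 ≤ n) (d : ℤ) (D : ↥(Spec (CommRingCat.of A)) → ℤ)
    (hD : ∀ x, Order.coheight x ≠ 1 → D x = 0)
    (g : (CohB1.ProjSpace n A).functionField) (hg : g ≠ 0)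
    (hH' : Scheme.ord g H = d + D (CohB1.ProjSpace.toSpec n A H))
    (h : ∀ y, y ≠ H → Order.coheight y = 1 → Scheme.ord g y = D (CohB1.ProjSpace.toSpec n A y)) :
    d = 0 ∧ ∃ f : (Spec (CommRingCat.of A)).functionField, f ≠ 0 ∧
      ∀ x : ↥(Spec (CommRingCat.of A)), Order.coheight x = 1 → Scheme.ord f x = D x := by
  haveI := isLocallyNoetherian_chart A n
  set c := chart A n
  set q := CohB1.ProjSpace.toSpec n A
  obtain ⟨f, hf, hfg⟩ := exists_eq_pullback (ULift.{u} (Fin n))
    ((ffMap c (map_generic c)).hom g)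
    (fun e => hg (ffMap_injective c _ (e.trans (map_zero _).symm))) fun u hu hu' => by
    rw [ord_chart A n hR1 hu, h _ (H_ne_chart A n H hH u)
      ((coheight_eq_of_isOpenImmersion c).trans hu), toSpec_chart, hu']
    exact hD _ (by rw [coheight_eq_zero_iff_generic.mpr rfl]; simp)
  have hgq : g = (ffMap q (toSpec_generic A n)).hom f := by
    apply ffMap_injective c (map_generic c)
    rw [← hfg]
    have e := ffMap_comp c q (map_generic c) (toSpec_generic A n)
      (by rw [Scheme.Hom.comp_apply, map_generic c]; exact toSpec_generic A n)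
    rw [ffMap_congr (chart_toSpec A n) _ (p_generic _)] at e
    exact congr($e f)
  constructor
  · rw [hgq, ord_ffMap_eq_zero q _ H (toSpec_H A n H hH hn) hf, toSpec_H A n H hH hn,
      hD _ (by rw [coheight_eq_zero_iff_generic.mpr rfl]; simp)] at hH'
    omega
  · refine ⟨f, hf, fun x hx => ?_⟩
    haveI := hR1 x hx
    obtain ⟨u, hux, hu⟩ := exists_codim_one_fibre (ULift.{u} (Fin n)) x hx
    have hne : (𝔸(ULift.{u} (Fin n); Spec (CommRingCat.of A)) ↘ Spec (CommRingCat.of A)) u ≠
        genericPoint _ := fun e => by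
      rw [hux] at e
      rw [e, coheight_eq_zero_iff_generic.mpr rfl] at hx
      exact zero_ne_one hx
    haveI := hR1 _ ((congrArg Order.coheight hux).trans hx)
    have h1 := ord_pullback _ hu hne f
    rw [hfg, ord_chart A n hR1 hu, h _ (H_ne_chart A n H hH u)
      ((coheight_eq_of_isOpenImmersion c).trans hu), toSpec_chart, hux] at h1
    exact h1.symm

include hH hR1 in
theorem decomp_proj (hn : 1 ≤ n) (D' : ↥(CohB1.ProjSpace n A) → ℤ)
    (hD' : ∀ y, Order.coheight y ≠ 1 → D' y = 0) (hfin : {y | D' y ≠ 0}.Finite) :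
    ∃! d : ℤ, ∃ (D : ↥(Spec (CommRingCat.of A)) → ℤ) (g : (CohB1.ProjSpace n A).functionField),
      (∀ x, Order.coheight x ≠ 1 → D x = 0) ∧ {x | D x ≠ 0}.Finite ∧ g ≠ 0 ∧
      D' H = d + D (CohB1.ProjSpace.toSpec n A H) + Scheme.ord g H ∧
      ∀ y, y ≠ H → Order.coheight y = 1 →
        D' y = D (CohB1.ProjSpace.toSpec n A y) + Scheme.ord g y := by
  classical
  haveI := isLocallyNoetherian_chart A n
  set c := chart A n
  set q := CohB1.ProjSpace.toSpec n A
  haveI : CompactSpace ↥(CohB1.ProjSpace n A) := QuasiCompact.compactSpace_of_compactSpace q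
  haveI : IsNoetherian (CohB1.ProjSpace n A) := ⟨⟩
  obtain ⟨g', hg', hord⟩ := exists_div_generic (ULift.{u} (Fin n)) (fun u => D' (c u))
    (fun u hu => hD' _ fun e => hu ((coheight_eq_of_isOpenImmersion c).symm.trans e))
    (hfin.preimage c.isOpenEmbedding.injective.injOn)
  obtain ⟨g, rfl⟩ := (ffMap_bijective c (map_generic c)
    (Groth.Agent.H56.SpecStalk.stalkMap_bijective c _)).2 g'
  have hg : g ≠ 0 := fun e => hg' (by rw [e]; exact map_zero _)
  have hex : ∀ x : ↥(Spec (CommRingCat.of A)),
      ∃ u : ↥(𝔸(ULift.{u} (Fin n); Spec (CommRingCat.of A))), Order.coheight x = 1 →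
        (𝔸(ULift.{u} (Fin n); Spec (CommRingCat.of A)) ↘ Spec (CommRingCat.of A)) u = x ∧
          Order.coheight u = 1 := fun x => by
    by_cases hx : Order.coheight x = 1
    · haveI := hR1 x hx
      obtain ⟨u, h1, h2⟩ := exists_codim_one_fibre (ULift.{u} (Fin n)) x hx
      exact ⟨u, fun _ => ⟨h1, h2⟩⟩
    · exact ⟨genericPoint _, fun e => absurd e hx⟩
  choose η hη using hex
  let D : ↥(Spec (CommRingCat.of A)) → ℤ := fun x =>
    if Order.coheight x = 1 then D' (c (η x)) - Scheme.ord g (c (η x)) else 0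
  have hD : ∀ x, Order.coheight x ≠ 1 → D x = 0 := fun x hx => if_neg hx
  have hDH : ∀ E : ↥(Spec (CommRingCat.of A)) → ℤ,
      (∀ x, Order.coheight x ≠ 1 → E x = 0) → E (q H) = 0 := fun E hE => by
    refine hE _ ?_
    rw [toSpec_H A n H hH hn, coheight_eq_zero_iff_generic.mpr rfl]
    simp
  refine ⟨D' H - Scheme.ord g H, ⟨D, g, hD, ?_, hg, by rw [hDH D hD]; ring, fun y hne hy => ?_⟩, ?_⟩
  · refine ((hfin.union (finite_ord_ne_zero hg)).image q).subset fun x hx => ?_
    have hx1 : Order.coheight x = 1 := by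
      by_contra h
      exact hx (if_neg h)
    refine ⟨c (η x), ?_, (toSpec_chart A n _).trans (hη x hx1).1⟩
    simp only [Set.mem_union, Set.mem_ofPred]
    by_contra h
    simp only [not_or, not_not] at h
    exact hx (by simp only [D, if_pos hx1, h.1, h.2, sub_zero])
  · obtain ⟨u, hu, rfl⟩ := exists_chart A n H hH hy hne
    rw [toSpec_chart]
    by_cases hu' : (𝔸(ULift.{u} (Fin n); Spec (CommRingCat.of A)) ↘ Spec (CommRingCat.of A)) u =
        genericPoint _
    · have := hord u hu hu'
      rw [ord_chart A n hR1 hu] at this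
      rw [hD _ (by rw [coheight_eq_zero_iff_generic.mpr hu']; simp), this, zero_add]
    · obtain ⟨h1, -, huniq⟩ := codim_one_cases _ hu hu'
      have e := huniq _ (hη _ h1).2 (hη _ h1).1
      simp only [D, if_pos h1, e]
      ring
  · rintro d ⟨E, g₂, hE, -, hg₂, hEH, hEy⟩
    have key := (principal_proj A n H hH hR1 hn (d - (D' H - Scheme.ord g H))
      (fun x => E x - D x)
      (fun x hx => by rw [hE x hx, hD x hx, sub_zero]) (g * g₂⁻¹)
      (mul_ne_zero hg (inv_ne_zero hg₂))
      (by rw [Scheme.ord_mul hg (inv_ne_zero hg₂), ord_inv' H hg₂]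
          have h1 : E (q H) = 0 := hDH E hE
          have h2 : D (q H) = 0 := hDH D hD
          simp only [q] at h1 h2 hEH ⊢
          omega)
      (fun y hne hy => by
        rw [Scheme.ord_mul hg (inv_ne_zero hg₂), ord_inv' y hg₂]
        have h2 := hEy y hne hy
        obtain ⟨u, hu, rfl⟩ := exists_chart A n H hH hy hne
        have h1 : D' (c u) = D (q (c u)) + Scheme.ord g (c u) := by
          show D' (c u) = D (CohB1.ProjSpace.toSpec n A (chart A n u)) + _
          rw [toSpec_chart]
          by_cases hu' : (𝔸(ULift.{u} (Fin n); Spec (CommRingCat.of A)) ↘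
              Spec (CommRingCat.of A)) u = genericPoint _
          · have := hord u hu hu'
            rw [ord_chart A n hR1 hu] at this
            rw [hD _ (by rw [coheight_eq_zero_iff_generic.mpr hu']; simp), zero_add]
            exact this.symm
          · obtain ⟨h1, -, huniq⟩ := codim_one_cases _ hu hu'
            have e := huniq _ (hη _ h1).2 (hη _ h1).1
            simp only [D, if_pos h1, e]
            ring
        change D' (c u) = E (q (c u)) + Scheme.ord g₂ (c u) at h2
        show Scheme.ord g (c u) + -Scheme.ord g₂ (c u) = E (q (c u)) - D (q (c u))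
        omega)).1
    omega

end proj

end Groth.Agent.Lib.WDivAff85
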