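import Groth.Agent.Lib.WDivAff85.Basic
import Mathlib.RingTheory.MvPolynomial.Basic
import Mathlib.RingTheory.Polynomial.Basic
import Mathlib.RingTheory.Polynomial.UniqueFactorization

/-!
# Height one primes of polynomial rings; unramifiedness of maps of spectra
-/

set_option autoImplicit false
set_option linter.style.haveILetI false
set_option linter.deprecated false
universe u
open CategoryTheory AlgebraicGeometry TopologicalSpace MvPolynomial
open Groth.Agent.Lib

namespace Groth.Agent.Lib.WDivAff85

section ring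

variable {R : Type u} [CommRing R] {σ : Type u}

theorem isPrime_map_C (p : Ideal R) [p.IsPrime] :
    (p.map (C : R →+* MvPolynomial σ R)).IsPrime := by
  have h : p.map (C : R →+* MvPolynomial σ R) =
      RingHom.ker (MvPolynomial.map (σ := σ) (Ideal.Quotient.mk p)) := by
    rw [MvPolynomial.ker_map, Ideal.mk_ker]
  rw [h]
  exact RingHom.ker_isPrime _

theorem comap_map_C (p : Ideal R) :
    (p.map (C : R →+* MvPolynomial σ R)).comap C = p := by
  ext a
  rw [Ideal.mem_comap, MvPolynomial.mem_map_C_iff]
  classical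
  refine ⟨fun h => by simpa using h 0, fun h m => ?_⟩
  rw [coeff_C]
  split
  · exact h
  · exact p.zero_mem

theorem height_one_comap [IsDomain R] {Q : Ideal (MvPolynomial σ R)} [Q.IsPrime] (hQ : Q.height = 1)
    (h0 : Q.comap C ≠ ⊥) : Q = (Q.comap C).map C ∧ (Q.comap C).height = 1 := by
  set p := Q.comap C
  haveI : p.IsPrime := Ideal.IsPrime.comap _
  haveI := isPrime_map_C (σ := σ) p
  have hle : p.map (C : R →+* MvPolynomial σ R) ≤ Q := Ideal.map_comap_le
  have hpos : (⊥ : Ideal (MvPolynomial σ R)) < p.map C := bot_lt_iff_ne_bot.mpr fun h =>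
    h0 ((comap_map_C (σ := σ) p).symm.trans (by
      rw [h]
      ext a
      simp))
  have hQeq : Q = p.map C := by
    refine (le_antisymm hle ?_).symm
    by_contra hne
    have hlt : p.map C < Q := lt_of_le_not_ge hle hne
    have h1 := Ideal.height_add_one_le_of_lt_of_isPrime hlt
    have h2 := Ideal.height_add_one_le_of_lt_of_isPrime hpos
    rw [Ideal.height_bot, zero_add] at h2
    rw [hQ] at h1
    exact absurd ((add_le_add_left h2 1).trans h1) (by norm_num)
  refine ⟨hQeq, le_antisymm ?_ (Order.one_le_iff_ne_zero.mpr fun h =>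
    h0 (Ideal.height_eq_zero_iff_eq_bot.mp h))⟩
  rw [show p.height = Order.height (⟨p, ‹p.IsPrime›⟩ : PrimeSpectrum R) from
    PrimeSpectrum.height_eq_orderHeight ⟨p, _⟩, show (1 : ℕ∞) = ((1 : ℕ) : ℕ∞) from Nat.cast_one.symm,
    Order.height_le_coe_iff]
  intro q hq
  have hq0 : q.asIdeal = ⊥ := by
    by_contra hq0
    haveI := isPrime_map_C (σ := σ) q.asIdeal
    have h1 : q.asIdeal.map (C : R →+* MvPolynomial σ R) < Q := by
      rw [hQeq]
      refine lt_of_le_not_ge (Ideal.map_mono hq.le) fun h => hq.not_ge ?_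
      have := Ideal.comap_mono (f := (C : R →+* MvPolynomial σ R)) h
      rwa [comap_map_C, comap_map_C] at this
    have hpos' : (⊥ : Ideal (MvPolynomial σ R)) < q.asIdeal.map C :=
      bot_lt_iff_ne_bot.mpr fun h => hq0 ((comap_map_C (σ := σ) q.asIdeal).symm.trans (by
        rw [h]
        ext a
        simp))
    have h2 := Ideal.height_add_one_le_of_lt_of_isPrime hpos'
    have h1' := Ideal.height_add_one_le_of_lt_of_isPrime h1
    rw [Ideal.height_bot, zero_add] at h2
    rw [hQ] at h1'
    exact absurd ((add_le_add_left h2 1).trans h1') (by norm_num)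
  rw [← PrimeSpectrum.height_eq_orderHeight, hq0, Ideal.height_bot]
  exact zero_lt_one

end ring

section spec

open StructureSheaf

variable {R S : CommRingCat.{u}}

theorem maximalIdeal_eq_map_toStalk (w : Spec R) :
    IsLocalRing.maximalIdeal ((Spec R).presheaf.stalk w) =
      w.asIdeal.map (toStalk R w).hom := by
  letI : Algebra R ((Spec R).presheaf.stalk w) := StructureSheaf.stalkAlgebra R w
  haveI : IsLocalization.AtPrime ((Spec R).presheaf.stalk w) w.asIdeal :=
    StructureSheaf.IsLocalization.to_stalk R w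
  exact (IsLocalization.AtPrime.map_eq_maximalIdeal w.asIdeal _).symm

theorem unram_specMap (φ : R ⟶ S) (w : Spec S)
    (h : ((Spec.map φ) w).asIdeal.map φ.hom = w.asIdeal) : Unram (Spec.map φ) w := by
  unfold Unram
  rw [maximalIdeal_eq_map_toStalk, maximalIdeal_eq_map_toStalk]
  refine (Ideal.map_map (toStalk R ((Spec.map φ) w)).hom ((Spec.map φ).stalkMap w).hom).trans ?_
  refine Eq.trans (congrArg (fun ψ => Ideal.map ψ ((Spec.map φ) w).asIdeal)
    (congrArg CommRingCat.Hom.hom (stalkMap_toStalk φ w))) ?_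
  show ((Spec.map φ) w).asIdeal.map ((toStalk S w).hom.comp φ.hom) = _
  rw [← Ideal.map_map, h]

theorem dvr_of_span (A : CommRingCat.{u}) [IsDomain A] [IsNoetherianRing A] (w : Spec A) (b : A)
    (hb : w.asIdeal = Ideal.span {b}) (hne : w.asIdeal ≠ ⊥) :
    IsDiscreteValuationRing ((Spec A).presheaf.stalk w) := by
  letI : Algebra A ((Spec A).presheaf.stalk w) := StructureSheaf.stalkAlgebra A w
  haveI : IsLocalization.AtPrime ((Spec A).presheaf.stalk w) w.asIdeal :=
    StructureSheaf.IsLocalization.to_stalk A w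
  haveI : IsNoetherianRing ((Spec A).presheaf.stalk w) :=
    IsLocalization.isNoetherianRing w.asIdeal.primeCompl _ inferInstance
  haveI : IsDomain ((Spec A).presheaf.stalk w) :=
    IsLocalization.isDomain_of_le_nonZeroDivisors _ w.asIdeal.primeCompl_le_nonZeroDivisors
  have hmax : IsLocalRing.maximalIdeal ((Spec A).presheaf.stalk w) =
      Ideal.span {algebraMap A _ b} := by
    rw [← IsLocalization.AtPrime.map_eq_maximalIdeal w.asIdeal ((Spec A).presheaf.stalk w), hb,
      Ideal.map_span, Set.image_singleton]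
  have hb0 : b ≠ 0 := fun e => hne (by rw [hb, e, Ideal.span_singleton_eq_bot])
  have hbR : algebraMap A ((Spec A).presheaf.stalk w) b ≠ 0 :=
    (map_ne_zero_iff _ (IsLocalization.injective _ w.asIdeal.primeCompl_le_nonZeroDivisors)).mpr hb0
  have hf : ¬ IsField ((Spec A).presheaf.stalk w) := fun hf => by
    rw [IsLocalRing.isField_iff_maximalIdeal_eq, hmax, Ideal.span_singleton_eq_bot] at hf
    exact hbR hf
  exact ((IsDiscreteValuationRing.TFAE _ hf).out 0 4).mpr
    (⟨⟨_, hmax⟩⟩ : (IsLocalRing.maximalIdeal ((Spec A).presheaf.stalk w)).IsPrincipal)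

theorem dvr_of_ufd (A : CommRingCat.{u}) [IsDomain A] [IsNoetherianRing A]
    [UniqueFactorizationMonoid A] (w : Spec A) (hw : Order.coheight w = 1) :
    IsDiscreteValuationRing ((Spec A).presheaf.stalk w) := by
  have hh : w.asIdeal.height = 1 := (idealHeight_eq_coheight _ w).trans hw
  obtain ⟨π, hπ, hsp⟩ := WDivOrd.exists_prime_span A (P := w.asIdeal) hh
  refine dvr_of_span A w π hsp ?_
  rw [hsp, Ne, Ideal.span_singleton_eq_bot]
  exact hπ.ne_zero

theorem isUnit_of_ord_eq_zero (A : CommRingCat.{u}) [IsDomain A] [IsNoetherianRing A]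
    [UniqueFactorizationMonoid A] (g : (Spec A).functionField) (hg : g ≠ 0)
    (h : ∀ w : Spec A, Order.coheight w = 1 → Scheme.ord g w = 0) :
    ∃ a : A, IsUnit a ∧ g = algebraMap A (Spec A).functionField a := by
  letI : Algebra A (Spec A).functionField := instAlgebraCarrierFunctionFieldSpec A
  haveI : IsFractionRing A (Spec A).functionField := functionField_isFractionRing_of_affine A
  have hinj : Function.Injective (algebraMap A (Spec A).functionField) :=
    IsFractionRing.injective A _
  have key : ∀ π : A, Prime π → ∃ w : Spec A, Order.coheight w = 1 ∧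
      ∀ a : A, a ≠ 0 → 0 ≤ Scheme.ord (algebraMap A (Spec A).functionField a) w ∧
        (π ∣ a → 1 ≤ Scheme.ord (algebraMap A (Spec A).functionField a) w) ∧
        (¬ π ∣ a → Scheme.ord (algebraMap A (Spec A).functionField a) w = 0) := by
    intro π hπ
    have hp : (Ideal.span {π}).IsPrime := (Ideal.span_singleton_prime hπ.ne_zero).mpr hπ
    let w : Spec A := ⟨Ideal.span {π}, hp⟩
    have hw : Order.coheight w = 1 := by
      rw [← idealHeight_eq_coheight A w]
      exact Ideal.height_span_singleton_eq_one_of_mem_nonZeroDivisors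
        (mem_nonZeroDivisors_of_ne_zero hπ.ne_zero) hπ.not_isUnit
    haveI := dvr_of_ufd A w hw
    refine ⟨w, hw, fun a ha => ?_⟩
    letI : Algebra A ((Spec A).presheaf.stalk w) := StructureSheaf.stalkAlgebra A w
    haveI : IsLocalization.AtPrime ((Spec A).presheaf.stalk w) w.asIdeal :=
      StructureSheaf.IsLocalization.to_stalk A w
    have hcompat : ∀ a, algebraMap ((Spec A).presheaf.stalk w) (Spec A).functionField
        (algebraMap A ((Spec A).presheaf.stalk w) a) = algebraMap A (Spec A).functionField a :=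
      fun a => congr(($(StructureSheaf.toStalk_stalkSpecializes (R := A)
        ((genericPoint_spec (Spec A)).specializes (trivial : w ∈ _)))) a)
    have ha' : algebraMap A (Spec A).functionField a ≠ 0 := (map_ne_zero_iff _ hinj).mpr ha
    have haS : algebraMap A ((Spec A).presheaf.stalk w) a ≠ 0 :=
      fun e => ha' (by rw [← hcompat, e, map_zero])
    obtain ⟨ϖ, hϖ⟩ := IsDiscreteValuationRing.exists_irreducible ((Spec A).presheaf.stalk w)
    obtain ⟨n, u, hu⟩ := IsDiscreteValuationRing.eq_unit_mul_pow_irreducible haS hϖ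
    have hord : Scheme.ord (algebraMap A (Spec A).functionField a) w = n := by
      rw [Scheme.ord_eq_iff hw ha', ← hcompat]
      show Ring.ordFrac ((Spec A).presheaf.stalk w) _ = _
      rw [hu, map_mul, map_pow, map_mul, map_pow, Ring.ordFrac_of_isUnit u.isUnit,
        Ring.ordFrac_irreducible hϖ, one_mul, ← WithZero.exp_nsmul, nsmul_one]
      rfl
    have hiff : π ∣ a ↔ algebraMap A ((Spec A).presheaf.stalk w) a ∈
        IsLocalRing.maximalIdeal ((Spec A).presheaf.stalk w) := by
      rw [IsLocalization.AtPrime.to_map_mem_maximal_iff ((Spec A).presheaf.stalk w) w.asIdeal a]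
      exact Ideal.mem_span_singleton.symm
    rw [hord]
    refine ⟨Int.natCast_nonneg n, fun hd => ?_, fun hd => ?_⟩
    · have hm := hiff.mp hd
      rcases Nat.eq_zero_or_pos n with h0 | h0
      · rw [hu, h0, pow_zero, mul_one] at hm
        exact absurd u.isUnit (by simpa [IsLocalRing.mem_maximalIdeal] using hm)
      · exact_mod_cast h0
    · rcases Nat.eq_zero_or_pos n with h0 | h0
      · exact_mod_cast h0
      · refine absurd (hiff.mpr ?_) hd
        rw [hu]
        exact Ideal.mul_mem_left _ _ (Ideal.pow_mem_of_mem _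
          ((IsDiscreteValuationRing.irreducible_iff_uniformizer ϖ).mp hϖ ▸
            Ideal.mem_span_singleton_self ϖ) n h0)
  obtain ⟨a, b, hrel, rfl⟩ := IsFractionRing.exists_reduced_fraction (A := A) g
  rw [IsFractionRing.mk'_eq_div] at hg h ⊢
  set bA : A := (b : A) with hbA
  have hb0 : bA ≠ 0 := nonZeroDivisors.ne_zero b.2
  have ha0 : a ≠ 0 := fun e => hg (by rw [e, map_zero, zero_div])
  have hbK : algebraMap A (Spec A).functionField bA ≠ 0 := (map_ne_zero_iff _ hinj).mpr hb0
  have haK : algebraMap A (Spec A).functionField a ≠ 0 := (map_ne_zero_iff _ hinj).mpr ha0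
  have hab : ∀ π : A, Prime π → ¬ π ∣ a ∧ ¬ π ∣ bA := by
    intro π hπ
    obtain ⟨w, hw, hk⟩ := key π hπ
    have h2 := h w hw
    have h3 : Scheme.ord (algebraMap A (Spec A).functionField a /
        algebraMap A (Spec A).functionField bA * algebraMap A (Spec A).functionField bA) w = _ :=
      Scheme.ord_mul (div_ne_zero haK hbK) hbK
    rw [div_mul_cancel₀ _ hbK, h2, zero_add] at h3
    constructor
    · intro hda
      have hdb : ¬ π ∣ bA := fun hdb => hπ.not_isUnit (hrel hda hdb)
      have := (hk a ha0).2.1 hda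
      rw [h3, (hk bA hb0).2.2 hdb] at this
      omega
    · intro hdb
      have hda : ¬ π ∣ a := fun hda => hπ.not_isUnit (hrel hda hdb)
      have := (hk bA hb0).2.1 hdb
      rw [← h3, (hk a ha0).2.2 hda] at this
      omega
  have hu : ∀ c : A, c ≠ 0 → (∀ π : A, Prime π → ¬ π ∣ c) → IsUnit c := fun c hc hp => by
    by_contra hcu
    obtain ⟨π, hπ, hd⟩ := WfDvdMonoid.exists_irreducible_factor hcu hc
    exact hp π hπ.prime hd
  obtain ⟨ub, hub⟩ := hu bA hb0 fun π hπ => (hab π hπ).2
  refine ⟨a * (↑ub⁻¹ : A), (hu a ha0 fun π hπ => (hab π hπ).1).mul ub⁻¹.isUnit, ?_⟩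
  rw [div_eq_iff hbK, ← map_mul, mul_assoc, ← hub, Units.inv_mul, mul_one]

end spec

end Groth.Agent.Lib.WDivAff85
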